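import Cfsg.Agent.H721.SR.Base
import Cfsg.Agent.S0241

/-!
# Strongly real elements: reduction to centralisers of involutions (helper581, S4971)
-/

set_option autoImplicit false

namespace Cfsg.Agent.H581.SR

open Subgroup Cfsg.Agent.H721.SR

/-- a real element is strongly real, or commutes with an involution `y`; if its order is even one can take `y ∈ ⟨g⟩` -/
theorem sr_or {G : Type*} [Group G] [Finite G] {g : G} (hg : IsConj g g⁻¹)
    (h : ∀ y : G, orderOf y = 2 → y * g = g * y → (Odd (orderOf g) ∨ y ∈ zpowers g) → SR g) : SR g := by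
  by_cases h1 : g = 1
  · rw [h1]; exact sr_one
  rcases Nat.even_or_odd (orderOf g) with he | ho
  · obtain ⟨k, hk⟩ := he.two_dvd
    have hpos := orderOf_pos g
    have h2 : orderOf (g ^ k) = 2 := by
      rw [orderOf_pow_of_dvd (by rintro rfl; omega) (by rw [hk]; exact dvd_mul_left _ _), hk,
        Nat.mul_div_cancel _ (by omega)]
    exact h (g ^ k) h2 ((Commute.refl g).pow_left k) (Or.inr ⟨k, by simp⟩)
  · rcases Nat.even_or_odd (Nat.card (centralizer ({g} : Set G))) with he' | ho'
    · have : Fact (Nat.Prime 2) := ⟨Nat.prime_two⟩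
      obtain ⟨y, hy⟩ := exists_prime_orderOf_dvd_card' (G := centralizer ({g} : Set G)) 2 he'.two_dvd
      exact h y (by rw [orderOf_coe]; exact hy) (mem_centralizer_singleton_iff.1 y.2) (Or.inl ho)
    · obtain ⟨t, ht, h3⟩ := S0241.result g h1 hg ho'
      exact ⟨t, by rw [← pow_two, ← ht, pow_orderOf_eq_one], h3⟩

/-- the alternating group of degree 5 is strongly real -/
theorem sr_alt5 : ∀ g : alternatingGroup (Fin 5), SR g := by
  unfold SR
  decide +kernel

theorem sr_prod {A B : Type*} [Group A] [Group B] {a : A} {b : B} (ha : a * a = 1) (hb : SR b) :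
    SR ((a, b) : A × B) := by
  obtain ⟨t, h1, h2⟩ := hb
  refine ⟨(1, t), by rw [Prod.mk_mul_mk, h1, one_mul]; rfl, ?_⟩
  rw [Prod.inv_mk, Prod.mk_mul_mk, Prod.inv_mk, Prod.mk_mul_mk, h2, inv_one, one_mul, mul_one,
    inv_eq_of_mul_eq_one_left ha]

end Cfsg.Agent.H581.SR
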