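import Cfsg.Agent.H581.SR.Base
import Cfsg.Agent.H413.JOneLocal

/-!
# `J₁` : real elements are strongly real (helper581, task SR-SPJ12)
-/

set_option autoImplicit false

namespace Cfsg.Agent.H581.SR

open Subgroup Cfsg.Agent.H721.SR

theorem real_j1 {g : Cfsg.Spor.J1} (hg : IsConj g g⁻¹) : SR g := by
  have hfin : Finite Cfsg.Spor.J1 :=
    Nat.finite_of_card_ne_zero (by rw [H413.JOneLocal.card_J1]; norm_num)
  refine sr_or hg fun y hy hc _ => ?_
  obtain ⟨e⟩ := H413.JOneLocal.isLocal.cent y hy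
  have hmem : g ∈ centralizer ({y} : Set Cfsg.Spor.J1) := mem_centralizer_singleton_iff.2 hc.symm
  have h1 : SR (e ⟨g, hmem⟩) := by
    refine sr_prod (a := (e ⟨g, hmem⟩).1) (b := (e ⟨g, hmem⟩).2) ?_ (sr_alt5 _)
    generalize (e ⟨g, hmem⟩).1 = a
    revert a
    decide
  have h2 := (h1.map e.symm.toMonoidHom).map (centralizer ({y} : Set Cfsg.Spor.J1)).subtype
  simpa using h2

/-- **the row of `J₁`** -/
theorem rr_j1 {K : Type*} [Group K] (h : Cfsg.Spor.IsoJ1 K) : RR K := by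
  obtain ⟨e⟩ := h
  exact RR.congr e.symm (RR.of_real fun _ hg => real_j1 hg)

end Cfsg.Agent.H581.SR
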