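import Cfsg.Agent.H581.SR.JTwoC
import Cfsg.Agent.KFacts.J2.Basic
import Cfsg.Agent.J2Type.ThreeA

/-!
# `J₂` : real elements are strongly real (helper581, task SR-SPJ12)
-/

set_option autoImplicit false

namespace Cfsg.Agent.H581.SR.JTwo

open Subgroup Cfsg.Agent.H721.SR
open Cfsg.Agent.J2Type.Model Cfsg.Agent.J2Type.Base Cfsg.Agent.J2Type.CentU Cfsg.Agent.J2Type.Cent5
open Cfsg.Agent.KFacts.J2.Basic

variable {X : Type*} [Group X] {t u : X}

/-- elements commuting with `u` -/
theorem sr_u [Finite X] (h : Fus t u) {g : X} (hg : g * u = u * g) : SR g := by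
  obtain ⟨f, U, V, H0, F⟩ := Cfsg.Agent.J2Type.CentU.main h
  have h60 := Cfsg.Agent.J2Type.ThreeA.card_H0 h F
  obtain ⟨e⟩ := exists_equiv h F h60
  obtain ⟨a, ha, b, hb, rfl⟩ := exists_mul F (mem_centralizer_singleton_iff.2 hg)
  obtain ⟨s, hs, hsb⟩ := ((sr_alt5 (e ⟨b, hb⟩)).map e.symm.toMonoidHom)
  have hsb' : (s : X) * b * (s : X)⁻¹ = b⁻¹ := by
    have := congrArg Subtype.val hsb
    simpa using this
  have hs' : (s : X) * s = 1 := congrArg Subtype.val hs
  refine ⟨s, hs', ?_⟩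
  have h1 : a * (s : X) = s * a := V_comm h F h60 ha s.2
  have h2 : a * b = b * a := V_comm h F h60 ha hb
  have h3 : a⁻¹ = a := inv_V h F ha
  calc (s : X) * (a * b) * (s : X)⁻¹ = (s * a) * b * (s : X)⁻¹ := by group
    _ = a * (s * b * (s : X)⁻¹) := by rw [← h1]; group
    _ = a * b⁻¹ := by rw [hsb']
    _ = (a * b)⁻¹ := by rw [h2, mul_inv_rev, h3]

/-- elements of `C(t)` -/
theorem sr_t [Finite X] {Q : Subgroup (centralizer ({t} : Set X))} {v : Fin 5 → centralizer ({t} : Set X)}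
    {ρ : centralizer ({t} : Set X) →* SP} (D : Dat t u Q v ρ) {g : X} (hg : g * t = t * g)
    (h : Odd (orderOf g) ∨ t ∈ zpowers g) : SR g := by
  have hmem : g ∈ centralizer ({t} : Set X) := mem_centralizer_singleton_iff.2 hg
  have h1 : SR (⟨g, hmem⟩ : centralizer ({t} : Set X)) := by
    refine JTwoC.sr_C D.M D.F.cardC (u := ⟨u, D.u_mem⟩) (Subtype.ext D.uu) D.u_notMem ?_
    rcases h with h | h
    · left
      have : orderOf (⟨g, hmem⟩ : centralizer ({t} : Set X)) = orderOf g := (Subgroup.orderOf_mk g hmem)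
      rwa [this]
    · right
      obtain ⟨n, hn⟩ := mem_zpowers_iff.1 h
      exact mem_zpowers_iff.2 ⟨n, Subtype.ext hn⟩
  exact h1.map (centralizer ({t} : Set X)).subtype

/-- **real elements of a group with the data of `J₂`** -/
theorem sr_real [Finite X] {Q : Subgroup (centralizer ({t} : Set X))} {v : Fin 5 → centralizer ({t} : Set X)}
    {ρ : centralizer ({t} : Set X) →* SP} (D : Dat t u Q v ρ) {g : X} (hg : IsConj g g⁻¹) : SR g := by
  refine sr_or hg fun y hy hc hz => ?_
  rcases D.F.cover y hy with h | h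
  · obtain ⟨x, rfl⟩ := isConj_iff.1 h
    have h1 : SR (x⁻¹ * g * x) := by
      apply sr_t D
      · calc x⁻¹ * g * x * t = x⁻¹ * (g * (x * t * x⁻¹)) * x := by group
          _ = x⁻¹ * ((x * t * x⁻¹) * g) * x := by rw [hc]
          _ = t * (x⁻¹ * g * x) := by group
      · rcases hz with hz | hz
        · left
          have : orderOf (x⁻¹ * g * x) = orderOf g := by
            have := JTwoC.orderOf_conj' g x⁻¹
            rwa [inv_inv] at this
          rwa [this]
        · right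
          obtain ⟨n, hn⟩ := mem_zpowers_iff.1 hz
          refine mem_zpowers_iff.2 ⟨n, ?_⟩
          have h2 : (x⁻¹ * g * x) ^ n = x⁻¹ * g ^ n * x := by
            have := conj_zpow (i := n) (a := x⁻¹) (b := g)
            rwa [inv_inv] at this
          rw [h2, hn]; group
    have h2 := h1.conj x
    have e : x * (x⁻¹ * g * x) * x⁻¹ = g := by group
    rwa [e] at h2
  · obtain ⟨x, rfl⟩ := isConj_iff.1 h
    have h1 : SR (x⁻¹ * g * x) := by
      apply sr_u D.F
      calc x⁻¹ * g * x * u = x⁻¹ * (g * (x * u * x⁻¹)) * x := by group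
          _ = x⁻¹ * ((x * u * x⁻¹) * g) * x := by rw [hc]
          _ = u * (x⁻¹ * g * x) := by group
    have h2 := h1.conj x
    have e : x * (x⁻¹ * g * x) * x⁻¹ = g := by group
    rwa [e] at h2

end Cfsg.Agent.H581.SR.JTwo

namespace Cfsg.Agent.H581.SR

open Subgroup Cfsg.Agent.H721.SR

open JTwo Cfsg.Agent.KFacts.J2.Basic in
/-- **the row of `J₂`** -/
theorem rr_j2 {K : Type*} [Group K] (h : Cfsg.Spor.IsoJ2 K) : RR K := by
  obtain ⟨e⟩ := h
  have hfin : Finite Cfsg.Spor.J2 :=
    Nat.finite_of_card_ne_zero (by rw [Cfsg.Agent.S1619.result.2.2.2]; norm_num)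
  obtain ⟨t, u, Q, v, ρ, D⟩ := exists_dat
  exact RR.congr e.symm (RR.of_real fun _ hg => sr_real D hg)

end Cfsg.Agent.H581.SR
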