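import Cfsg.Agent.H581.SR.Base
import Cfsg.Agent.J2Type.COdd

/-!
# The centraliser `2^{1+4}:A₅` in `J₂`: strongly real elements (helper581, task SR-SPJ12)
-/

set_option autoImplicit false

namespace Cfsg.Agent.H581.SR.JTwoC

open Cfsg.Agent.H721.SR Subgroup
open Cfsg.Agent.J2Type.Model Cfsg.Agent.J2Type.SPFacts Cfsg.Agent.J2Type.CStruct Cfsg.Agent.J2Type.COdd

variable {C : Type*} [Group C] {Q : Subgroup C} {z : C} {v : Fin 5 → C} {ρ : C →* SP}

/-- elements of `Q` -/
theorem sr_Q (M : IsModel Q z v ρ) {q : C} (hq : q ∈ Q) : SR q := by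
  rcases M.cover q hq with ⟨a, h⟩ | ⟨a, i, h⟩ | ⟨a, i, j, -, h⟩
  · rw [h]; exact sr_of_sq (zp_sq M a)
  · rw [h]; exact sr_of_sq (zv_sq M a i)
  · rw [h, ← mul_assoc]
    exact sr_of_mul (zv_sq M a i) (M.v_sq j)

theorem pow_four_Q (M : IsModel Q z v ρ) {q : C} (hq : q ∈ Q) : q ^ 4 = 1 := by
  have key : q ^ 2 = 1 ∨ q ^ 2 = z := by
    rcases M.cover q hq with ⟨a, h⟩ | ⟨a, i, h⟩ | ⟨a, i, j, hij, h⟩
    · left; rw [h, pow_two]; exact zp_sq M a
    · left; rw [h, pow_two]; exact zv_sq M a i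
    · right; rw [h, pow_two, sq_zp_mul M, vv_sq M hij.ne]
  rw [show 4 = 2 * 2 by norm_num, pow_mul]
  rcases key with h | h
  · rw [h, one_pow]
  · rw [h, pow_two, M.z_sq]

theorem mem_zpowers_conj (M : IsModel Q z v ρ) {g k : C} (h : z ∈ zpowers g) : z ∈ zpowers (k * g * k⁻¹) := by
  obtain ⟨n, hn⟩ := mem_zpowers_iff.1 h
  refine mem_zpowers_iff.2 ⟨n, ?_⟩
  rw [conj_zpow, hn, M.z_comm k, mul_assoc, mul_inv_cancel, mul_one]

theorem orderOf_conj' (g k : C) : orderOf (k * g * k⁻¹) = orderOf g :=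
  (MulAut.conj k).orderOf_eq g

/-- the facts on `T3` -/
theorem T3_facts : ∀ x ∈ T3, (d3 * x * d3⁻¹ = x⁻¹ ∧ (x * x * x = 1 ∨ x * x * x = ⟨1, fun i => if i = 3 ∨ i = 4 then 1 else 0⟩)) ∨
    (x * x * x = ⟨1, fun j => if j = 3 then 0 else 1⟩ ∨ x * x * x = ⟨1, fun j => if j = 4 then 0 else 1⟩) := by
  decide +kernel

theorem T5_facts : ∀ x ∈ T5, d5 * x * d5⁻¹ = x⁻¹ ∧ x * x * x * x * x = 1 := by
  decide +kernel

theorem g0_facts : (fun _ : Fin 5 => (0 : ZMod 2)) = g0.s := rfl

theorem rho_v34 (M : IsModel Q z v ρ) : ρ (v 3 * v 4) = ⟨1, fun i => if i = 3 ∨ i = 4 then 1 else 0⟩ := by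
  rw [map_mul, rho_v M, rho_v M]
  apply SP.ext
  · rfl
  · funext j
    rw [mul_s]
    show (if j = 4 then (0 : ZMod 2) else 1) + (if j = 3 then 0 else 1) = if j = 3 ∨ j = 4 then 1 else 0
    revert j; decide

/-- sign of the inverter -/
theorem sign_zero (M : IsModel Q z v ρ) {D g : C} {n : ℕ} (hn : Odd n) (h1 : ρ (D * g * D⁻¹) = ρ g⁻¹)
    (h2 : D * g ^ n * D⁻¹ = (g ^ n)⁻¹) : D * g * D⁻¹ = g⁻¹ := by
  obtain ⟨a, ha⟩ := eq_of_rho_eq M h1
  rcases zmod2_cases a with rfl | rfl
  · rw [ha, zp_zero, one_mul]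
  · exfalso
    rw [zp_one] at ha
    have h3 : Commute z g⁻¹ := (M.z_comm g⁻¹).symm
    have h4 : D * g ^ n * D⁻¹ = z ^ n * (g⁻¹) ^ n := by
      rw [← h3.mul_pow, ← ha, conj_pow]
    have h5 : z ^ n = z := by
      obtain ⟨k, rfl⟩ := hn
      rw [pow_succ, pow_mul, pow_two, M.z_sq, one_pow, one_mul]
    rw [h2, h5, inv_pow] at h4
    apply M.z_ne
    have h6 : z * (g ^ n)⁻¹ = 1 * (g ^ n)⁻¹ := by rw [one_mul]; exact h4.symm
    exact mul_right_cancel h6

/-- **elements of `C` above elements of order 3 of `A₅`** -/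
theorem sr_three (M : IsModel Q z v ρ) [Finite C] (hcard : Nat.card C = 1920) {u : C} (hu : u * u = 1) (huQ : u ∉ Q)
    {g : C} (hσ : (ρ g).σ ≠ 1) (h3 : (ρ g).σ ^ 3 = 1) (hz : Odd (orderOf g) ∨ z ∈ zpowers g) : SR g := by
  have hpow : ∀ n : ℕ, (ρ (g ^ n)).σ = (ρ g).σ ^ n := by
    intro n
    induction n with
    | zero => simp [one_σ]
    | succ n ih => rw [pow_succ, map_mul, mul_σ, ih, pow_succ]
  have hQ : g ^ 3 ∈ Q := (M.mem_Q _).2 (by rw [hpow, h3])
  have h12 : g ^ 12 = 1 := by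
    rw [show 12 = 3 * 4 by norm_num, pow_mul]; exact pow_four_Q M hQ
  have hs : orderOf (g ^ 4) = 3 := by
    have : Fact (Nat.Prime 3) := ⟨by norm_num⟩
    apply orderOf_eq_prime
    · rw [← pow_mul, h12]
    · intro h
      apply hσ
      have h4 : (ρ (g ^ 4)).σ = (ρ g).σ ^ 4 := hpow 4
      rw [h, map_one, one_σ, pow_succ, h3, one_mul] at h4
      exact h4.symm
  obtain ⟨c3, hc3, hc33⟩ := exists_odd_lift M (n := 3) (by decide) g3_E g3_pow3
  obtain ⟨k, hk⟩ := conj_three M hcard hs hc3 hc33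
  -- move `g`
  have key : SR (k * g * k⁻¹) := by
    set g' := k * g * k⁻¹ with hg'
    have hz' : Odd (orderOf g') ∨ z ∈ zpowers g' := by
      rcases hz with h | h
      · left; rw [hg', orderOf_conj']; exact h
      · right; exact mem_zpowers_conj M h
    have h4 : g' ^ 4 = c3 := by rw [hg', conj_pow, hk]
    have h12' : g' ^ 12 = 1 := by rw [hg', conj_pow, h12]; group
    have hcomm : g' * c3 = c3 * g' := by rw [← h4]; exact (Commute.self_pow g' 4).eq
    rw [comm_iff_odd M (n := 3) (by decide) hc33, hc3] at hcomm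
    have hE := (M.range (ρ g')).1 ⟨g', rfl⟩
    have hT := cent_g3 _ hE.1 hE.2 hcomm
    have hρ3 : ρ (g' ^ 3) = ρ g' * ρ g' * ρ g' := by rw [map_pow, pow_succ, pow_two]
    obtain ⟨D, hD⟩ := (M.range d3).2 d3_E
    have hD2 : D * D = 1 := by
      apply sq_of_rho_sq M hu huQ
      · rw [hD]; decide +kernel
      · rw [hD]; decide +kernel
    rcases T3_facts _ hT with ⟨h5, h6⟩ | h6
    · refine ⟨D, hD2, sign_zero M (n := 3) (by decide) ?_ ?_⟩
      · rw [map_mul, map_mul, map_inv, map_inv, hD]; exact h5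
      · rcases h6 with h6 | h6
        · rcases (M.ker (g' ^ 3)).1 (by rw [hρ3]; exact h6) with h7 | h7
          · rw [h7]; group
          · rw [h7, M.z_comm, mul_assoc, mul_inv_cancel, mul_one]
            exact (inv_eq_of_mul_eq_one_left M.z_sq).symm
        · obtain ⟨a, ha⟩ := eq_of_rho_eq M (x := g' ^ 3) (y := v 3 * v 4) (by rw [hρ3, rho_v34 M]; exact h6)
          have h7 : D * (v 3 * v 4) * D⁻¹ = v 4 * v 3 := by
            calc D * (v 3 * v 4) * D⁻¹ = (D * v 3 * D⁻¹) * (D * v 4 * D⁻¹) := by group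
              _ = _ := by
                rw [M.conj, M.conj, hD]
                show zp z 0 * v (d3.σ 3) * (zp z 0 * v (d3.σ 4)) = v 4 * v 3
                rw [zp_zero, one_mul, one_mul, show d3.σ 3 = 4 by decide, show d3.σ 4 = 3 by decide]
          have h8 : (v 3 * v 4)⁻¹ = v 4 * v 3 := by
            rw [mul_inv_rev, inv_eq_of_mul_eq_one_left (M.v_sq 3), inv_eq_of_mul_eq_one_left (M.v_sq 4)]
          rw [ha, mul_inv_rev, h8, inv_eq_of_mul_eq_one_left (zp_sq M a), zp_comm' M, ← h7]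
          calc D * (zp z a * (v 3 * v 4)) * D⁻¹ = (D * zp z a) * (v 3 * v 4) * D⁻¹ := by group
            _ = (zp z a * D) * (v 3 * v 4) * D⁻¹ := by rw [zp_comm' M]
            _ = _ := by group
    · -- `g'³ = ± v i`, impossible
      exfalso
      obtain ⟨i, hi⟩ : ∃ i, ρ (g' ^ 3) = ρ (v i) := by
        rcases h6 with h6 | h6
        · exact ⟨3, by rw [hρ3, rho_v M]; exact h6⟩
        · exact ⟨4, by rw [hρ3, rho_v M]; exact h6⟩
      obtain ⟨a, ha⟩ := eq_of_rho_eq M hi
      have h7 : g' ^ 3 * g' ^ 3 = 1 := by rw [ha]; exact zv_sq M a i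
      have h8 : g' ^ 3 ≠ 1 := by rw [ha]; exact v_ne_one M i a
      have h9 : g' ^ 3 ≠ z := by rw [ha]; exact zv_ne_z M a i
      have h6' : g' ^ 6 = 1 := by rw [show 6 = 3 + 3 by norm_num, pow_add]; exact h7
      rcases hz' with h | h
      · apply h8
        have h10 : orderOf g' ∣ 6 := orderOf_dvd_of_pow_eq_one h6'
        rw [← orderOf_dvd_iff_pow_eq_one]
        have h11 : Nat.Coprime (orderOf g') 2 := by
          rw [Nat.coprime_two_right]; exact h
        exact h11.dvd_of_dvd_mul_right (by simpa using h10)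
      · obtain ⟨n, hn⟩ := mem_zpowers_iff.1 h
        have h10 : z = (g' ^ 3) ^ n := by
          have e1 : z = z ^ (3 : ℕ) := by rw [pow_succ, pow_two, M.z_sq, one_mul]
          rw [e1, ← hn, ← zpow_natCast, ← zpow_mul, ← zpow_natCast, ← zpow_mul, mul_comm]
        rcases Int.even_or_odd n with ⟨m, hm⟩ | ⟨m, hm⟩
        · apply M.z_ne
          rw [h10, hm, zpow_add, ← (Commute.refl (g' ^ 3)).mul_zpow, h7, one_zpow]
        · apply h9
          rw [h10, hm, zpow_add, zpow_mul, zpow_one]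
          have : (g' ^ 3) ^ (2 : ℤ) = 1 := by rw [zpow_two]; exact h7
          rw [this, one_zpow, one_mul]
  have := key.conj k⁻¹
  have e : k⁻¹ * (k * g * k⁻¹) * k⁻¹⁻¹ = g := by group
  rwa [e] at this

/-- **elements of `C` above elements of order 5 of `A₅`** -/
theorem sr_five (M : IsModel Q z v ρ) [Finite C] (hcard : Nat.card C = 1920) {u : C} (hu : u * u = 1) (huQ : u ∉ Q)
    {g : C} (hσ : (ρ g).σ ≠ 1) (h5 : (ρ g).σ ^ 5 = 1) : SR g := by
  have hpow : ∀ n : ℕ, (ρ (g ^ n)).σ = (ρ g).σ ^ n := by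
    intro n
    induction n with
    | zero => simp [one_σ]
    | succ n ih => rw [pow_succ, map_mul, mul_σ, ih, pow_succ]
  have hQ : g ^ 5 ∈ Q := (M.mem_Q _).2 (by rw [hpow, h5])
  have h20 : g ^ 20 = 1 := by
    rw [show 20 = 5 * 4 by norm_num, pow_mul]; exact pow_four_Q M hQ
  have hs : orderOf (g ^ 16) = 5 := by
    have : Fact (Nat.Prime 5) := ⟨by norm_num⟩
    apply orderOf_eq_prime
    · rw [← pow_mul, show 16 * 5 = 20 * 4 by norm_num, pow_mul, h20, one_pow]
    · intro h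
      apply hσ
      have h4 : (ρ (g ^ 16)).σ = (ρ g).σ ^ 16 := hpow 16
      rw [h, map_one, one_σ, show 16 = 5 * 3 + 1 by norm_num, pow_succ, pow_mul, h5, one_pow, one_mul] at h4
      exact h4.symm
  obtain ⟨c5, hc5, hc55⟩ := exists_odd_lift M (n := 5) (by decide) g5_E g5_pow5
  obtain ⟨k, hk⟩ := conj_five M hcard hs hc5 hc55
  have key : SR (k * g * k⁻¹) := by
    set g' := k * g * k⁻¹ with hg'
    have hcomm : g' * c5 = c5 * g' := by
      rcases hk with hk | hk
      · have h4 : g' ^ 16 = c5 := by rw [hg', conj_pow, hk]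
        rw [← h4]; exact (Commute.self_pow g' 16).eq
      · have h4 : g' ^ 48 = c5 := by
          have h6 : c5 ^ 6 = c5 := by rw [show 6 = 5 + 1 by norm_num, pow_succ, hc55, one_mul]
          rw [show 48 = 16 * 3 by norm_num, pow_mul, hg', conj_pow, hk, ← pow_mul]
          exact h6
        rw [← h4]; exact (Commute.self_pow g' 48).eq
    rw [comm_iff_odd M (n := 5) (by decide) hc55, hc5] at hcomm
    have hE := (M.range (ρ g')).1 ⟨g', rfl⟩
    have hT := cent_g5 _ hE.1 hE.2 hcomm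
    obtain ⟨D, hD⟩ := (M.range d5).2 d5_E
    have hD2 : D * D = 1 := by
      apply sq_of_rho_sq M hu huQ
      · rw [hD]; decide +kernel
      · rw [hD]; decide +kernel
    obtain ⟨h6, h7⟩ := T5_facts _ hT
    refine ⟨D, hD2, sign_zero M (n := 5) (by decide) ?_ ?_⟩
    · rw [map_mul, map_mul, map_inv, map_inv, hD]; exact h6
    · have hρ5 : ρ (g' ^ 5) = 1 := by
        rw [map_pow, pow_succ, pow_succ, pow_succ, pow_two]; exact h7
      rcases (M.ker (g' ^ 5)).1 hρ5 with h8 | h8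
      · rw [h8]; group
      · rw [h8, M.z_comm, mul_assoc, mul_inv_cancel, mul_one]
        exact (inv_eq_of_mul_eq_one_left M.z_sq).symm
  have := key.conj k⁻¹
  have e : k⁻¹ * (k * g * k⁻¹) * k⁻¹⁻¹ = g := by group
  rwa [e] at this

theorem pair_cases : ∀ i j : Fin 5, i < j → j = 4 ∨ (i = 0 ∧ j = 1) ∨ (i = 2 ∧ j = 3) ∨
    ((i = 0 ∨ i = 1) ∧ (j = 2 ∨ j = 3)) := by decide

/-- **elements of `C` above involutions of `A₅`** -/
theorem sr_two (M : IsModel Q z v ρ) {u : C} (hu : u * u = 1) (huQ : u ∉ Q)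
    {g : C} (hσ : (ρ g).σ ≠ 1) (h2 : (ρ g).σ * (ρ g).σ = 1) (hz : Odd (orderOf g) ∨ z ∈ zpowers g) : SR g := by
  have hE := (M.range (ρ g)).1 ⟨g, rfl⟩
  obtain ⟨τ, hτ1, hτ⟩ := conj_g0_aux1 (ρ g).σ hE.1 h2 hσ
  obtain ⟨k, hk⟩ := (M.range ⟨τ, fun _ => 0⟩).2 ⟨hτ1, by simp⟩
  have key : SR (k * g * k⁻¹) := by
    set g' := k * g * k⁻¹ with hg'
    have hz' : Odd (orderOf g') ∨ z ∈ zpowers g' := by
      rcases hz with h | h
      · left; rw [hg', orderOf_conj']; exact h
      · right; exact mem_zpowers_conj M h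
    have hσ' : (ρ g').σ = σ0 := by
      rw [hg', map_mul, map_mul, map_inv, mul_σ, mul_σ, inv_σ, hk]
      show τ * (ρ g).σ * τ⁻¹ = σ0
      rw [hτ]; group
    obtain ⟨x0, h0⟩ := (M.range g0).2 g0_E
    have h00 : x0 * x0 = 1 := by
      apply sq_of_rho_sq M hu huQ
      · rw [h0]; exact g0_sq
      · rw [h0]; exact g0_σ_ne
    have hq : x0 * g' ∈ Q := by
      rw [M.mem_Q, map_mul, mul_σ, h0, hσ']
      decide +kernel
    have hg0 : g' = x0 * (x0 * g') := by rw [← mul_assoc, h00, one_mul]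
    have hx : ∀ i, x0 * v i = v (σ0 i) * x0 := by
      intro i
      have h4 := M.conj x0 i
      rw [h0] at h4
      have h5 : zp z (g0.s i) * v (g0.σ i) = v (σ0 i) := by
        show zp z 0 * v (σ0 i) = _
        rw [zp_zero, one_mul]
      rw [h5] at h4
      exact mul_inv_eq_iff_eq_mul.1 h4
    rcases M.cover _ hq with ⟨a, h⟩ | ⟨a, i, h⟩ | ⟨a, i, j, hij, h⟩
    · rw [hg0, h]; exact sr_of_mul h00 (zp_sq M a)
    · rw [hg0, h]; exact sr_of_mul h00 (zv_sq M a i)
    · have hx4 : (x0 * v 4) * (x0 * v 4) = 1 := by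
        have h5 := hx 4
        rw [show σ0 4 = 4 by decide] at h5
        calc (x0 * v 4) * (x0 * v 4) = (x0 * v 4) * (v 4 * x0) := by rw [← h5]
          _ = x0 * (v 4 * v 4) * x0 := by group
          _ = 1 := by rw [M.v_sq, mul_one, h00]
      have e : g' = zp z a * (v (σ0 i) * (x0 * v j)) := by
        rw [hg0, h]
        calc x0 * (zp z a * (v i * v j)) = (x0 * zp z a) * v i * v j := by group
          _ = (zp z a * x0) * v i * v j := by rw [zp_comm' M]
          _ = zp z a * (x0 * v i) * v j := by group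
          _ = zp z a * (v (σ0 i) * x0) * v j := by rw [hx]
          _ = _ := by group
      rcases pair_cases i j hij with rfl | ⟨rfl, rfl⟩ | ⟨rfl, rfl⟩ | ⟨hi, hj⟩
      · rw [e, ← mul_assoc]
        exact sr_of_mul (zv_sq M a _) hx4
      · apply sr_of_sq
        rw [e, sq_zp_mul M, show σ0 0 = 1 by decide]
        calc v 1 * (x0 * v 1) * (v 1 * (x0 * v 1)) = v 1 * x0 * (v 1 * v 1) * x0 * v 1 := by group
          _ = v 1 * (x0 * x0) * v 1 := by rw [M.v_sq, mul_one]; group
          _ = 1 := by rw [h00, mul_one, M.v_sq]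
      · apply sr_of_sq
        rw [e, sq_zp_mul M, show σ0 2 = 3 by decide]
        calc v 3 * (x0 * v 3) * (v 3 * (x0 * v 3)) = v 3 * x0 * (v 3 * v 3) * x0 * v 3 := by group
          _ = v 3 * (x0 * x0) * v 3 := by rw [M.v_sq, mul_one]; group
          _ = 1 := by rw [h00, mul_one, M.v_sq]
      · -- `g'² = ± v 4`
        exfalso
        have h5 : ρ (g' * g') = ρ (v 4) := by
          have e1 : ρ g' = g0 * (ρ (v i) * ρ (v j)) := by
            rw [hg0, h, map_mul, map_mul, map_mul, rho_zp M, one_mul, h0]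
          rw [map_mul, e1, rho_v M, rho_v M, rho_v M]
          rcases hi with rfl | rfl <;> rcases hj with rfl | rfl <;> decide +kernel
        obtain ⟨b, hb⟩ := eq_of_rho_eq M h5
        have h7 : (g' * g') * (g' * g') = 1 := by rw [hb]; exact zv_sq M b 4
        have h8 : g' * g' ≠ 1 := by rw [hb]; exact v_ne_one M 4 b
        have h9 : g' * g' ≠ z := by rw [hb]; exact zv_ne_z M b 4
        rcases hz' with h | h
        · have h10 : g' ^ 4 = 1 := by
            rw [show 4 = 2 + 2 by norm_num, pow_add, pow_two]; exact h7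
          have h11 : orderOf g' ∣ 4 := orderOf_dvd_of_pow_eq_one h10
          have h12 : Nat.Coprime (orderOf g') 4 := by
            rw [show 4 = 2 ^ 2 by norm_num]
            exact Nat.Coprime.pow_right 2 (Nat.coprime_two_right.2 h)
          have h13 : orderOf g' = 1 := by
            have := Nat.dvd_gcd dvd_rfl h11
            rw [h12] at this
            exact Nat.dvd_one.1 this
          apply h8
          rw [orderOf_eq_one_iff.1 h13, mul_one]
        · obtain ⟨n, hn⟩ := mem_zpowers_iff.1 h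
          rcases Int.even_or_odd n with ⟨m, hm⟩ | ⟨m, hm⟩
          · have h10 : z = (g' * g') ^ m := by
              rw [← hn, hm, zpow_add, ← (Commute.refl g').mul_zpow]
            rcases Int.even_or_odd m with ⟨l, hl⟩ | ⟨l, hl⟩
            · apply M.z_ne
              rw [h10, hl, zpow_add, ← (Commute.refl (g' * g')).mul_zpow, h7, one_zpow]
            · apply h9
              rw [h10, hl, zpow_add, zpow_mul, zpow_one]
              have : (g' * g') ^ (2 : ℤ) = 1 := by rw [zpow_two]; exact h7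
              rw [this, one_zpow, one_mul]
          · -- `n` odd
            have h10 : (ρ g').σ = 1 := by
              have h11 : ρ (g' ^ n) = 1 := by rw [hn]; exact rho_z M
              have h12 : (ρ (g' ^ n)).σ = (ρ g').σ ^ n := by
                let f : SP →* Equiv.Perm (Fin 5) := { toFun := SP.σ, map_one' := rfl, map_mul' := fun _ _ => rfl }
                have : f (ρ (g' ^ n)) = (f (ρ g')) ^ n := by rw [map_zpow, map_zpow]
                exact this
              rw [h11, hσ', one_σ, hm, zpow_add, zpow_mul, zpow_one] at h12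
              have h13 : σ0 ^ (2 : ℤ) = 1 := by decide +kernel
              rw [h13, one_zpow, one_mul] at h12
              rw [hσ', ← h12]
            rw [hσ'] at h10
            exact absurd h10 (by decide)
  have := key.conj k⁻¹
  have e : k⁻¹ * (k * g * k⁻¹) * k⁻¹⁻¹ = g := by group
  rwa [e] at this

theorem perm_cases : ∀ σ : Equiv.Perm (Fin 5), Equiv.Perm.sign σ = 1 → σ = 1 ∨ σ * σ = 1 ∨ σ ^ 3 = 1 ∨ σ ^ 5 = 1 := by
  decide +kernel

/-- **all elements of `C` of odd order or with `z` among their powers** -/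
theorem sr_C (M : IsModel Q z v ρ) [Finite C] (hcard : Nat.card C = 1920) {u : C} (hu : u * u = 1) (huQ : u ∉ Q)
    {g : C} (hz : Odd (orderOf g) ∨ z ∈ zpowers g) : SR g := by
  have hE := (M.range (ρ g)).1 ⟨g, rfl⟩
  by_cases h1 : (ρ g).σ = 1
  · exact sr_Q M ((M.mem_Q g).2 h1)
  rcases perm_cases _ hE.1 with h | h | h | h
  · exact absurd h h1
  · exact sr_two M hu huQ h1 h hz
  · exact sr_three M hcard hu huQ h1 h hz
  · exact sr_five M hcard hu huQ h1 h

end Cfsg.Agent.H581.SR.JTwoC
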